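/-
Project G2R: the field automorphism of `G₂(4)` and the transport of the model.
-/
import Cfsg.Agent.G2R.Mod0
import Cfsg.Agent.S1080
import Cfsg.Agent.S2121
import Cfsg.Agent.S2180
import Cfsg.Agent.S1055

set_option autoImplicit false
set_option linter.constructorNameAsVariable false

universe u v

namespace CL.G2R
open Subgroup CL.Grp CL.L34 CL.MX.G2 CL.Chev Cfsg.Lie

/-- the Frobenius map of `K4` -/
def m4_fr : K4 ≃+* K4 where
  toFun t := t ^ 2
  invFun t := t ^ 2
  left_inv := by intro t; revert t; decide +kernel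
  right_inv := by intro t; revert t; decide +kernel
  map_mul' := by decide +kernel
  map_add' := by decide +kernel

/-- the field automorphism -/
noncomputable def m4_φ : MulAut P4 := Cfsg.Agent.S1080.fieldEquiv chevG2 m4_fr

theorem m4_xg {r : ℕ} (hr : r < 12) (t : K4) : m4_φ (xg r t) = xg r (t ^ 2) := by
  refine Subtype.ext (Units.ext ?_)
  rw [m4_φ, Cfsg.Agent.S1080.fieldEquiv_coe]
  simp only [xg, Real.xN_val, ChevalleyDatum.x, dif_pos (show r < chevG2.nroots from hr)]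
  exact Cfsg.Agent.S1080.xMat_map chevG2 m4_fr.toRingHom _ t

theorem m4_h (r : Fin chevG2.nroots) (t : K4) : m4_φ ((realG2.Sg K4).h r t) = (realG2.Sg K4).h r (t ^ 2) := by
  have k : ∀ (s : Fin chevG2.nroots) (t : K4), m4_φ (xg s t) = xg s (t ^ 2) := fun s => m4_xg s.is_lt
  simp only [StSys.h, StSys.n, xg_eq, map_mul, k, CL.SG2.F4.neg_eq, inv_pow, one_pow]

theorem m4_φφ (l : P4) : m4_φ (m4_φ l) = l := by
  refine Subtype.ext (Units.ext ?_)
  rw [m4_φ, Cfsg.Agent.S1080.fieldEquiv_coe, Cfsg.Agent.S1080.fieldEquiv_coe]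
  ext i j
  exact m4_fr.left_inv _

theorem m4_cz {l : P4} (h : l * xg 11 1 = xg 11 1 * l) (c : K4) : l * xg 11 c = xg 11 c * l := by
  have h1 : (l : GL chevG2.Idx K4) ∈ chevG2.posUnipotent K4 ⊔ chevG2.rootSubgroup K4 4 := by
    rw [← (Cfsg.Agent.S2180.result (F := K4) (by decide) (xg 11 1 : P4) (xg 9 1 : P4) (realG2.xN_val _ _)
      (realG2.xN_val _ _)).1]
    exact ⟨l.2, mem_centralizer_singleton_iff.2 (congrArg Subtype.val h)⟩
  have h2 : ∀ r, r < 12 ∧ (r = 11 ∨ (r < 12 ∧ 11 < 12 ∧ 11 ≠ r ∧ 11 ≠ Cert.auxG2.ng r ∧ Cert.auxG2.aTerms r 11 = [])) →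
      ∀ (g : GL chevG2.Idx K4) (t : K4), (g : Matrix _ _ K4) = chevG2.x K4 r t →
      g ∈ centralizer {((xg 11 c : P4) : GL chevG2.Idx K4)} := fun r hr g t e => by
    obtain rfl : g = (xg r t : P4) := Units.ext (e.trans (realG2.xN_val _ _).symm)
    refine mem_centralizer_singleton_iff.2 (congrArg Subtype.val (?_ : xg r t * xg 11 c = xg 11 c * xg r t))
    rcases hr.2 with rfl | h'
    · rw [← xg_add (by decide), ← xg_add (by decide), add_comm]
    · exact (xg_commute h' t c).eq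
  refine Subtype.ext (mem_centralizer_singleton_iff.1 (sup_le ((closure_le _).2 ?_) ((closure_le _).2 ?_) h1))
  · rintro g ⟨r, t, hr, e⟩
    exact h2 r ((by decide +kernel : ∀ r < chevG2.nroots, chevG2.IsPosRoot r → r < 12 ∧ (r = 11 ∨ (r < 12 ∧ 11 < 12 ∧
      11 ≠ r ∧ 11 ≠ Cert.auxG2.ng r ∧ Cert.auxG2.aTerms r 11 = []))) r hr.1 hr) g t e
  · rintro g ⟨t, e⟩
    exact h2 4 (by decide +kernel) g t e

theorem m4S : M4S := by
  have hM := (realG2.full K4).hMul
  refine ⟨m4_φ, fun u => ?_, ?_, m4_φφ, fun α => ?_⟩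
  · simp only [κ0_apply, map_mul, frob]
    rw [m4_xg (by decide), m4_xg (by decide), m4_xg (by decide), m4_xg (by decide), m4_xg (by decide), m4_xg (by decide)]
  · rw [x0, tg, map_mul, m4_h, m4_h, show (CL.SG2.F4.v ^ 3 * 1 ^ 2 : K4) = 1 by decide +kernel, one_pow, StSys.h_one,
      show (CL.SG2.F4.v ^ 2 * 1 : K4) = .w by decide +kernel, show (CL.SG2.F4.w ^ 2 : K4) = .v by decide +kernel,
      mul_one, mul_one, eq_inv_iff_mul_eq_one, ← hM _ .v .w (by decide) (by decide)]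
    exact StSys.h_one _ _
  · have h2 : Nat.card (Cfsg.Out P4) = 2 := Cfsg.Agent.S2121.result (F := K4) 2 2 rfl (by decide)
    have hφ : (m4_φ : Cfsg.Out P4) ≠ 1 := fun e => by
      obtain ⟨l, hl⟩ := (QuotientGroup.eq_one_iff _).1 e
      have k : ∀ c, l * xg 11 c * l⁻¹ = xg 11 (c ^ 2) := fun c => by
        rw [← m4_xg (by decide), ← hl, MulAut.conj_apply]
      have k1 := m4_cz (mul_inv_eq_iff_eq_mul.1 ((k 1).trans (by rw [one_pow]))) .w
      have k2 := k .w
      rw [k1, mul_inv_cancel_right, ← mul_inv_eq_one, xg_lt (by decide), xg_lt (by decide), ← StSys.x_neg, ← StSys.x_add] at k2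
      have := (realG2.full K4).faithful.eq_zero _ _ (by rw [realG2.R.pos_iff_ht, tabG2.ht_eq realG2]; decide +kernel)
        (k2 ▸ one_mem _)
      exact absurd this (by decide +kernel)
    obtain ⟨y, -, hy⟩ := (Nat.card_eq_two_iff' (1 : Cfsg.Out P4)).1 h2
    by_cases hα : (α : Cfsg.Out P4) = 1
    · obtain ⟨l, rfl⟩ := (QuotientGroup.eq_one_iff _).1 hα
      exact ⟨l⁻¹, Or.inl fun y => by rw [MulAut.conj_apply]; group⟩
    · obtain ⟨l, hl⟩ := QuotientGroup.eq.1 ((hy _ hα).trans (hy _ hφ).symm)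
      refine ⟨α l, Or.inr fun y => ?_⟩
      rw [← map_inv, ← map_mul, ← map_mul, ← MulAut.conj_apply, hl]
      simp

theorem m4_center {G : Type u} {H : Type v} [Group G] [Group H] (e : G ≃* H) : (center G).map (e : G →* H) = center H := by
  ext x
  obtain ⟨y, rfl⟩ := e.surjective x
  refine (mem_map_iff_mem (f := (e : G →* H)) e.injective).trans ?_
  simp only [mem_center_iff, e.surjective.forall, ← map_mul, e.injective.eq_iff]

theorem mtS : MTS.{u, v} := by
  rintro ⟨a1, a2, a3, a4, a5, a6, a7, a8⟩ ⟨b1, b2⟩ ⟨M, c1, c2, ⟨c3⟩, c4, c5, c6⟩ ⟨φ, d1, d2, d3, d4⟩ G _ L F _ _ hF ⟨e0⟩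
  classical
  let e : L ≃* P4 := e0.trans (Cfsg.Agent.S1080.fieldEquiv chevG2 (FiniteField.ringEquivOfCardEq (K := F) (K' := K4) hF))
  let j : P4 →* G := L.subtype.comp e.symm.toMonoidHom
  have ji : Function.Injective j := L.subtype_injective.comp e.symm.injective
  have jL : ∀ y, j y ∈ L := fun y => (e.symm y).2
  have js : ∀ l ∈ L, ∃ y, l = j y := fun l hl => ⟨e ⟨l, hl⟩, by simp [j]⟩
  let ψ : G → G := fun g => if hg : g ∈ L then j (φ (e ⟨g, hg⟩)) else g
  have hψ : ∀ y, ψ (j y) = j (φ y) := fun y => by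
    simp only [ψ, dif_pos (jL y)]
    congr 2
    exact e.apply_symm_apply y
  have hr : (⊤ : Subgroup P4).map j = L := le_antisymm (by rintro _ ⟨y, -, rfl⟩; exact jL y) fun l hl => by
    obtain ⟨y, rfl⟩ := js l hl
    exact ⟨y, trivial, rfl⟩
  have hs := Cfsg.Agent.S1055.result (F := K4) ⟨.w, by decide, by decide⟩
  refine ⟨j.comp κ0, j x0, j n0, j h0, ψ, ji.comp a1, fun u => jL _, ?_, fun l hl hc => ?_, jL _, ?_, fun u => ?_, jL _, ?_,
    fun u => ?_, jL _, fun r v w p c => ?_, ?_, ?_, fun g hg hz => ?_, fun y hy hz y3 y1 => ?_, fun l hl l2 l1 => ?_,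
    fun a ha b hb h1 h2 h3 => ?_, fun u => ?_, ?_, fun l hl => ?_, fun g hg => ?_, M.map j, ?_, ?_, ?_, ?_, ?_,
    fun r p c => ⟨_, c6 r p c, rfl⟩⟩
  · rw [MonoidHom.range_comp, ← hr]
    exact ⟨map_mono le_top, a2.isPGroup.map j, by rw [relIndex_map_map_of_injective _ _ ji]; exact a2.not_dvd⟩
  · obtain ⟨y, rfl⟩ := js l hl
    have := hs.1
    rcases (inferInstance : (center P4).Normal).eq_bot_or_eq_top with h | h
    · have : y ∈ center P4 := mem_center_iff.2 fun g => ji (by rw [map_mul, map_mul]; exact hc _ (jL g))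
      rw [h, mem_bot] at this
      rw [this, map_one]
    · exact absurd ⟨⟨fun a b => (mem_center_iff.1 (h ▸ mem_top b : b ∈ center P4) a)⟩⟩ hs.2
  · rw [← map_pow, a3, map_one]
  · simpa using congrArg j (ax0 u)
  · rw [← map_pow, a4, map_one]
  · simpa using congrArg j (ah0 u)
  · simpa using congrArg j (an0 r v w p c)
  · simpa using congrArg j a5
  · simpa using congrArg j a6
  · obtain ⟨y, rfl⟩ := js g hg
    obtain ⟨u, u', k, h⟩ := b1 y (ji (by simpa using hz))
    exact ⟨u, u', k, h.imp (fun h => by simpa using congrArg j h) fun h => by simpa using congrArg j h⟩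
  · obtain ⟨y, rfl⟩ := js y hy
    obtain ⟨m, h, h'⟩ := b2 y (ji (by simpa using hz)) (ji (by simpa using y3)) fun h => y1 (by rw [h, map_one])
    exact ⟨j m, jL m, by simpa using congrArg j h, by simpa using congrArg j h'⟩
  · obtain ⟨y, rfl⟩ := js l hl
    obtain ⟨m, h⟩ := a7 y (ji (by simpa using l2)) fun h => l1 (by rw [h, map_one])
    exact ⟨j m, jL m, h.imp (fun h => by simpa using congrArg j h) fun h => by simpa using congrArg j h⟩
  · obtain ⟨a, rfl⟩ := js a ha
    obtain ⟨b, rfl⟩ := js b hb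
    exact a8 a b (ji (by simpa using h1)) (ji (by simpa using h2)) (ji (by simpa using h3))
  · exact (hψ _).trans (congrArg j (d1 u))
  · rw [hψ, d2, map_inv]
  · obtain ⟨y, rfl⟩ := js l hl
    rw [hψ, hψ, d3]
  · obtain ⟨l, h⟩ := d4 (MulAut.congr e (L.normalizerMonoidHom ⟨g, hg⟩))
    have k : ∀ y, j (MulAut.congr e (L.normalizerMonoidHom ⟨g, hg⟩) y) = g * j y * g⁻¹ := fun y => by
      simp [j]
    refine ⟨j l, jL l, h.imp (fun h y hy => ?_) fun h y hy => ?_⟩
    · obtain ⟨y, rfl⟩ := js y hy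
      have := congrArg j (h y)
      rw [map_mul, map_mul, k, map_inv] at this
      conv_lhs => rw [← this]
      group
    · obtain ⟨y, rfl⟩ := js y hy
      rw [hψ, ← h y, map_mul, map_mul, k, map_inv]
      group
  · exact Group.IsPerfect.map j
  · rwa [← Nat.card_congr (centerCongr (M.equivMapOfInjective j ji)).toEquiv]
  · exact ⟨(QuotientGroup.congr _ _ (M.equivMapOfInjective j ji).symm (m4_center _)).trans c3⟩
  · rintro _ ⟨m, hm, rfl⟩
    exact ⟨jL m, by simpa using congrArg j (c4 m hm)⟩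
  · intro g hg h
    obtain ⟨y, rfl⟩ := js g hg
    obtain ⟨m, hm, k, h⟩ := c5 y (ji (by simpa using h))
    exact ⟨j m, ⟨m, hm, rfl⟩, k, by simpa using congrArg j h⟩

end CL.G2R
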