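/-
Project G2R: basic facts in `G₂(4)`.
-/
import Cfsg.Agent.G2R.Mod0
import Cfsg.Agent.S1059
import Cfsg.Agent.S2177
import Cfsg.Agent.S2180

set_option autoImplicit false
set_option linter.constructorNameAsVariable false

namespace CL.G2R
open Subgroup CL.Grp CL.L34 CL.MX.G2 CL.Chev CL.Chev.Cert Cfsg.Lie

theorem m1_U : (realG2.Sg K4).U ≤ κ0.range := (realG2.Sg K4).XS_le_iff.2 fun r hr t => by
  rw [xg_eq]
  rcases (by decide +kernel : ∀ r < 12, (∀ i < 2, 0 ≤ auxG2.rt r i) → r = 6 ∨ r = 7 ∨ r = 8 ∨ r = 9 ∨ r = 10 ∨ r = 11) r r.2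
    ((tabG2.pos_iff realG2 r).1 hr) with h | h | h | h | h | h <;> rw [h]
  exacts [⟨_, κ0_xb t⟩, ⟨_, κ0_xa t⟩, ⟨_, κ0_xA t⟩, ⟨_, κ0_xB t⟩, ⟨_, κ0_xC t⟩, ⟨_, κ0_xZ t⟩]

theorem m1_card : Nat.card κ0.range = 4096 := by
  refine le_antisymm (U6.card ▸ Nat.card_le_card_of_surjective _ κ0.rangeRestrict_surjective) ?_
  have := card_le_of_le m1_U
  rwa [(realG2.full K4).faithful.uFaithful.card_U, realG2.ncard_pos, Nat.card_eq_fintype_card, CL.SG2.F4.card] at this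

theorem m1_inj : Function.Injective κ0 := fun _ _ e =>
  ((Nat.bijective_iff_surjective_and_card _).2 ⟨κ0.rangeRestrict_surjective, U6.card.trans m1_card.symm⟩).1 (Subtype.ext e)

theorem m1_syl : IsSylowIn 2 κ0.range ⊤ := ⟨le_top, IsPGroup.of_card (n := 12) m1_card, by
  have := κ0.range.card_mul_index
  rw [m1_card, Cfsg.Agent.S1059.result CL.SG2.F4.card] at this
  rw [relIndex_top_right]; omega⟩

theorem m1_x0 : x0 = (realG2.Sg K4).h (realG2.R.simple i0) .w := by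
  rw [x0, tg, show (CL.SG2.F4.v : K4) ^ 2 * 1 = .w by decide, show (CL.SG2.F4.v : K4) ^ 3 * 1 ^ 2 = 1 by decide,
    StSys.h_one, mul_one]

theorem m1_h0 : h0 = (realG2.Sg K4).h (realG2.R.simple i1) .w := by
  rw [h0, tg, show (CL.SG2.F4.v : K4) ^ 2 * .v = 1 by decide, show (CL.SG2.F4.v : K4) ^ 3 * .v ^ 2 = .w by decide,
    StSys.h_one, one_mul]

theorem m1_cube (r : Fin chevG2.nroots) : (realG2.Sg K4).h r .w ^ 3 = 1 := by
  have hM := (realG2.full K4).hMul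
  rw [pow_succ, pow_two, ← hM r _ _ (by decide) (by decide), ← hM r _ _ (by decide) (by decide),
    show (CL.SG2.F4.w : K4) * .w * .w = 1 by decide, StSys.h_one]

theorem m1_nx : n0 * x0 * n0⁻¹ = x0⁻¹ := by
  have hM := (realG2.full K4).hMul
  rw [m1_x0, n0, StSys.nS_def, StSys.conj_n_h _ _ _ (by decide), RS.pair_self, eq_inv_iff_mul_eq_one,
    show (CL.SG2.F4.w : K4) ^ (-2 : ℤ) = .w by decide, ← pow_two, ← pow_succ, m1_cube]

theorem m1_na : n0 = κ0 (xa 1) * (n0 * κ0 (xa 1) * n0⁻¹) * κ0 (xa 1) := by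
  have e : n0 * xg 7 1 * n0⁻¹ = xg 4 1 := by
    rw [mul_inv_eq_iff_eq_mul, n0, nS_xg i0 (s := 7) (k := 4) (e := -1) (by decide +kernel)]
    congr 2
  rw [κ0_xa, e, n0, StSys.nS_def, StSys.n, xg_eq, xg_eq, tabG2.neg, tabG2.simple]
  congr 3

theorem m1_cls (l : P4) (l2 : l * l = 1) (l1 : l ≠ 1) : ∃ m, m * l * m⁻¹ = κ0 (xZ 1) ∨ m * l * m⁻¹ = κ0 (xB 1) := by
  obtain ⟨y, -, hy, m, hm, e⟩ := (Cfsg.Agent.S2177.result (F := K4) CL.SG2.F4.card.ge).2.1 l l.2 (by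
    rw [Subgroup.orderOf_coe]; exact orderOf_eq_prime (by rwa [pow_two]) l1)
  refine ⟨⟨m, hm⟩, ?_⟩
  rw [κ0_xZ, κ0_xB]
  rcases List.mem_pair.1 hy with h | h
  · exact .inl (Subtype.ext (e.trans (Units.ext (h.trans (realG2.xN_val 11 1).symm))))
  · exact .inr (Subtype.ext (e.trans (Units.ext (h.trans (realG2.xN_val 9 1).symm))))

theorem m1_ncy (a b : P4) (ha : a * κ0 (xB 1) = κ0 (xB 1) * a) (hb : b * κ0 (xB 1) = κ0 (xB 1) * b) :
    a * b * a⁻¹ * b⁻¹ ≠ κ0 (xB 1) := by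
  let D : Subgroup P4 :=
    { carrier := {g | ∃ c g', Commute x0 g' ∧ (∀ d, Commute (xg 9 d) g') ∧ g = xg 9 c * g'}
      one_mem' := ⟨0, 1, .one_right _, fun _ => .one_right _, by rw [xg_zero (by decide), one_mul]⟩
      mul_mem' := by
        rintro _ _ ⟨c, g, h1, h2, rfl⟩ ⟨c', g', h3, h4, rfl⟩
        exact ⟨c + c', g * g', h1.mul_right h3, fun d => (h2 d).mul_right (h4 d), by
          rw [xg_add (by decide), (h2 c').symm.mul_mul_mul_comm]⟩
      inv_mem' := by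
        rintro _ ⟨c, g, h1, h2, rfl⟩
        refine ⟨c, g⁻¹, h1.inv_right, fun d => (h2 d).inv_right, ?_⟩
        rw [inv_eq_iff_mul_eq_one, (h2 c).symm.mul_mul_mul_comm, ← xg_add (by decide), mul_inv_cancel, mul_one,
          show c + c = 0 by grind, xg_zero (by decide)] }
  have k : ∀ r : ℕ, r < 12 → (∀ t, xg r t ∈ D) → chevG2.rootSubgroup K4 r ≤ D.map (chevG2.group K4).subtype :=
    fun r hr h g hg => by
      obtain ⟨t, rfl⟩ := (realG2.S K4).mem_X.1 ((realG2.rootSubgroup_eq K4 ⟨r, hr⟩).le hg)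
      exact ⟨_, h t, realG2.xN_of_lt hr t⟩
  have k2 : ∀ r : ℕ, (r < 12 ∧ auxG2.ca i0 r % 3 = 0) → (9 < 12 ∧ r < 12 ∧ r ≠ 9 ∧ r ≠ auxG2.ng 9 ∧ auxG2.aTerms 9 r = []) →
      chevG2.rootSubgroup K4 r ≤ D.map (chevG2.group K4).subtype := fun r h1 h2 => k r h1.1 fun t =>
    ⟨0, _, by
      obtain ⟨z, hz⟩ := Int.dvd_iff_emod_eq_zero.2 h1.2
      have := h_xg (F := K4) i0 h1.1 (c := .w) (by decide) t
      rwa [hz, zpow_mul, show (CL.SG2.F4.w : K4) ^ (3 : ℤ) = 1 by decide, one_zpow, one_mul, ← m1_x0] at this,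
      fun d => xg_commute h2 d t, by rw [xg_zero (by decide), one_mul]⟩
  have k3 : ∀ g : P4, g * κ0 (xB 1) = κ0 (xB 1) * g → g ∈ D := fun g hg => by
    have := (Cfsg.Agent.S2180.result (F := K4) CL.SG2.F4.card.ge _ _ (realG2.xN_val 11 1) (realG2.xN_val 9 1)).2.le
      (show (g : GL _ K4) ∈ _ from ⟨g.2, mem_centralizer_singleton_iff.2 (by
        rw [κ0_xB] at hg; exact congrArg Subtype.val hg)⟩)
    obtain ⟨g', h1, h2⟩ := sup_le (sup_le (sup_le (sup_le (k 9 (by decide) fun t =>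
      ⟨t, 1, .one_right _, fun _ => .one_right _, (mul_one _).symm⟩) (k2 10 (by decide +kernel) (by decide +kernel)))
      (k2 11 (by decide +kernel) (by decide +kernel))) (k2 6 (by decide +kernel) (by decide +kernel)))
      (k2 5 (by decide +kernel) (by decide +kernel)) this
    rwa [← Subtype.ext h2]
  obtain ⟨c, g, h1, h2, rfl⟩ := k3 a ha
  obtain ⟨c', g', h3, h4, rfl⟩ := k3 b hb
  intro e
  have cc : Commute (xg 9 c : P4) (xg 9 c') := by rw [Commute, SemiconjBy, ← xg_add (by decide), ← xg_add (by decide), add_comm]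
  have e1 : xg 9 c * g * (xg 9 c' * g') * (xg 9 c * g)⁻¹ * (xg 9 c' * g')⁻¹ = g * g' * g⁻¹ * g'⁻¹ := by
    have q1 : Commute (xg 9 c : P4) (g * (xg 9 c' * g') * g⁻¹) :=
      ((h2 c).mul_right (cc.mul_right (h4 c))).mul_right (h2 c).inv_right
    have q2 : Commute (xg 9 c' : P4) (g * g' * g⁻¹ * g'⁻¹) :=
      (((h2 c').mul_right (h4 c')).mul_right (h2 c').inv_right).mul_right (h4 c').inv_right
    calc _ = xg 9 c * (g * (xg 9 c' * g') * g⁻¹) * (xg 9 c)⁻¹ * (xg 9 c' * g')⁻¹ := by group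
      _ = g * xg 9 c' * g' * g⁻¹ * g'⁻¹ * (xg 9 c')⁻¹ := by rw [q1.eq, mul_inv_cancel_right]; group
      _ = xg 9 c' * (g * g' * g⁻¹ * g'⁻¹) * (xg 9 c')⁻¹ := by rw [← (h2 c').eq]; group
      _ = _ := by rw [q2.eq, mul_inv_cancel_right]
  have e2 : Commute x0 (κ0 (xB 1)) := e ▸ e1 ▸ ((h1.mul_right h3).mul_right h1.inv_right).mul_right h3.inv_right
  have := ax0 (xB 1)
  rw [e2.eq, mul_inv_cancel_right] at this
  exact absurd (m1_inj this) (by decide +kernel)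

theorem m1S : M1S :=
  ⟨m1_inj, m1_syl, m1_x0 ▸ m1_cube _, m1_h0 ▸ m1_cube _, m1_nx, m1_na, m1_cls, m1_ncy⟩

end CL.G2R
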